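import Groth.Agent.ExtPow7.TensorFrame
import Groth.Agent.InvX.Frame
import Groth.Agent.ExpDescLib.Core
import Groth.Prelude.Def_Formal
import Groth.Agent.KFlatLib.Scheme.ExtZero

/-!
# Sections of generated invertible modules avoiding finitely many points
-/

set_option autoImplicit false
set_option linter.style.haveILetI false
set_option backward.isDefEq.respectTransparency false
set_option backward.isDefEq.respectTransparency.types false

universe u

open CategoryTheory CategoryTheory.Limits AlgebraicGeometry TopologicalSpace Opposite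

noncomputable section

namespace Groth.Agent.KCurve7

open Groth.Agent

variable {X : Scheme.{u}}

theorem exists_stalk_coord {R : X.Modules} (hR : PicF.IsInvertible R) (x : X) :
    Nonempty (R.presheaf.stalk x ≃ₗ[X.presheaf.stalk x] X.presheaf.stalk x) := by
  obtain ⟨U, hU, ⟨e⟩⟩ := InvEnd.isFinLocFreeOfRank_one hR x
  obtain ⟨s, hs⟩ := H23.Frame.exists_frame e
  have h := ExtPow7.germ_bijective_of_frame hs x hU
  let l : (Fin 1 → X.presheaf.stalk x) →ₗ[X.presheaf.stalk x] R.presheaf.stalk x :=
    Fintype.linearCombination (X.presheaf.stalk x) fun i => R.presheaf.germ U x hU (s i)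
  have hl : Function.Bijective l := by
    refine (congrArg Function.Bijective (funext fun c => ?_)).mpr h
    exact Fintype.linearCombination_apply _ _ c
  exact ⟨(LinearEquiv.ofBijective l hl).symm.trans (LinearEquiv.funUnique (Fin 1) _ _)⟩

/-- The value of a section in the stalk. -/
abbrev val {R : X.Modules} (t : Coh.structureModule X ⟶ R) (x : X) : R.presheaf.stalk x :=
  R.presheaf.germ ⊤ x trivial (t.app ⊤ (1 : Γ(X, ⊤)))

theorem val_eq {R : X.Modules} (t : Coh.structureModule X ⟶ R) (x : X) :
    ((DerSch.stalkFunctor X x).map t) ((Coh.structureModule X).presheaf.germ ⊤ x trivial (1 : Γ(X, ⊤))) = val t x :=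
  DerSch.stalkFunctor_map_germ x t ⊤ trivial _

theorem surjective_iff {R : X.Modules} (t : Coh.structureModule X ⟶ R) (x : X)
    (v : R.presheaf.stalk x ≃ₗ[X.presheaf.stalk x] X.presheaf.stalk x) :
    Function.Surjective ((DerSch.stalkFunctor X x).map t) ↔ IsUnit (v (val t x)) := by
  let O := Coh.structureModule X
  have hlin : ∀ (a : X.presheaf.stalk x) (z : O.presheaf.stalk x),
      (DerSch.stalkFunctor X x).map t (a • z) = a • ((DerSch.stalkFunctor X x).map t z : R.presheaf.stalk x) :=
    fun a z => ((DerSch.stalkFunctor X x).map t).hom.map_smul a z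
  have hspan : ∀ z : O.presheaf.stalk x, ∃ a : X.presheaf.stalk x,
      z = a • O.presheaf.germ ⊤ x trivial (1 : Γ(X, ⊤)) := fun z => by
    obtain ⟨V, hV, a, rfl⟩ := O.presheaf.exists_germ_eq z
    let a' : Γ(X, V) := a
    refine ⟨X.presheaf.germ V x hV a', ?_⟩
    rw [← TopCat.Presheaf.germ_res_apply O.presheaf (homOfLE (le_top : V ≤ ⊤)) x hV, ← QCoh.germ_smul']
    refine congrArg _ ?_
    show a' = a' * X.presheaf.map (homOfLE (le_top : V ≤ ⊤)).op (1 : Γ(X, ⊤))
    rw [map_one, mul_one]
  refine ⟨fun h => ?_, fun h m => ?_⟩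
  · obtain ⟨r, hr⟩ := h (v.symm 1)
    obtain ⟨a, rfl⟩ := hspan r
    have h2 := (congrArg v ((hlin a _).symm.trans hr)).trans (v.apply_symm_apply 1)
    rw [val_eq, map_smul, smul_eq_mul] at h2
    exact IsUnit.of_mul_eq_one_right _ h2
  · obtain ⟨w, hw⟩ := h
    refine ⟨(v m * ↑w⁻¹) • (show O.presheaf.stalk x from O.presheaf.germ ⊤ x trivial (1 : Γ(X, ⊤))), ?_⟩
    rw [show ((DerSch.stalkFunctor X x).map t) ((v m * ↑w⁻¹) • (show O.presheaf.stalk x from O.presheaf.germ ⊤ x trivial (1 : Γ(X, ⊤)))) = _ from hlin _ _, val_eq]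
    refine v.injective ?_
    rw [map_smul, smul_eq_mul, ← hw, mul_assoc, Units.inv_mul, mul_one]

/-- A section generates at the points of its generating locus. -/
theorem surjective_stalk_of_genLocus {R : X.Modules} (t : Coh.structureModule X ⟶ R) {x : X}
    (hx : x ∈ CohB1.genLocus R t) : Function.Surjective ((DerSch.stalkFunctor X x).map t) := by
  obtain ⟨(U : X.Opens), hU, hxU⟩ := Opens.mem_sSup.1 hx
  haveI hU' : IsIso ((Scheme.Modules.restrictFunctor U.ι).map t) := hU
  exact KFlatLib.surjective_stalk_of_restrict U.ι t ⟨x, hxU⟩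
    (ConcreteCategory.bijective_of_isIso
      ((DerSch.stalkFunctor (U : Scheme.{u}) ⟨x, hxU⟩).map ((Scheme.Modules.restrictFunctor U.ι).map t))).2

theorem val_add {R : X.Modules} (t u : Coh.structureModule X ⟶ R) (x : X) : val (t + u) x = val t x + val u x := by
  show R.presheaf.germ ⊤ x trivial (t.app ⊤ (1 : Γ(X, ⊤)) + u.app ⊤ (1 : Γ(X, ⊤))) = _
  exact map_add _ _ _

variable (k : Type u) [Field k] [X.Over (Spec (CommRingCat.of k))]

/-- Scalars in the stalk. -/
def scalar (x : X) : k →+* X.presheaf.stalk x :=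
  (X.presheaf.germ ⊤ x trivial).hom.comp ((Coh.resTop X (op ⊤)).comp (Coh.toGlobal (X ↘ Spec (CommRingCat.of k))))

theorem val_smul {R : X.Modules} (t : Coh.structureModule X ⟶ R) (c : k) (x : X) :
    val (t ≫ Formal.smulMod k R c) x = scalar k x c • val t x := by
  show R.presheaf.germ ⊤ x trivial ((Formal.smulMod k R c).app ⊤ (t.app ⊤ (1 : Γ(X, ⊤)))) = _
  rw [show (Formal.smulMod k R c).app ⊤ (t.app ⊤ (1 : Γ(X, ⊤))) =
    (show Γ(X, ⊤) from Coh.resTop X (op ⊤) (Coh.toGlobal (X ↘ Spec (CommRingCat.of k)) c)) •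
      (show Γ(R, ⊤) from t.app ⊤ (1 : Γ(X, ⊤))) from rfl, QCoh.germ_smul']
  rfl

include k in
/-- A generated invertible module has a section generating at finitely many given points. -/
theorem exists_avoid [Infinite k] {R : X.Modules} (hR : PicF.IsInvertible R)
    (hgg : Curv2.IsGloballyGenerated R) {Z : Set X} (hZ : Z.Finite) :
    ∃ t : Coh.structureModule X ⟶ R, ∀ x ∈ Z, Function.Surjective ((DerSch.stalkFunctor X x).map t) := by
  classical
  let v := fun x : X => (exists_stalk_coord hR x).some
  suffices ∃ t : Coh.structureModule X ⟶ R, ∀ x ∈ Z, IsUnit (v x (val t x)) from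
    this.imp fun t ht x hx => (surjective_iff t x (v x)).2 (ht x hx)
  induction Z, hZ using Set.Finite.induction_on with
  | empty => exact ⟨0, fun x hx => absurd hx (Set.notMem_empty x)⟩
  | @insert z S _ hS ih =>
    obtain ⟨t, ht⟩ := ih
    obtain ⟨u, hu⟩ : ∃ u : Coh.structureModule X ⟶ R, IsUnit (v z (val u z)) := by
      obtain ⟨u, hu⟩ := ExpDescLib.exists_genLocus hR hgg z
      refine ⟨u, (surjective_iff u z (v z)).1 ?_⟩
      exact surjective_stalk_of_genLocus u hu
    let bad : X → Set k := fun w => {c | ¬ IsUnit (v w (val t w) + scalar k w c * v w (val u w))}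
    have hb : ∀ w ∈ insert z S, (bad w).Subsingleton := by
      intro w hw c hc c' hc'
      by_contra hne
      have hd : IsUnit (scalar k w c - scalar k w c') := by
        rw [← map_sub]; exact (isUnit_iff_ne_zero.2 (sub_ne_zero.2 hne)).map _
      let m := IsLocalRing.maximalIdeal (X.presheaf.stalk w)
      have hc₁ : v w (val t w) + scalar k w c * v w (val u w) ∈ m := (IsLocalRing.mem_maximalIdeal _).2 hc
      have hc₂ : v w (val t w) + scalar k w c' * v w (val u w) ∈ m := (IsLocalRing.mem_maximalIdeal _).2 hc'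
      have hbm : v w (val u w) ∈ m := by
        have := m.sub_mem hc₁ hc₂
        rw [show v w (val t w) + scalar k w c * v w (val u w) - (v w (val t w) + scalar k w c' * v w (val u w)) =
          (scalar k w c - scalar k w c') * v w (val u w) by ring] at this
        exact (Ideal.IsPrime.mem_or_mem inferInstance this).resolve_left fun h =>
          (IsLocalRing.mem_maximalIdeal _).1 h hd
      rcases hw with rfl | hw
      · exact (IsLocalRing.mem_maximalIdeal _).1 hbm hu
      · have ham : v w (val t w) ∈ m := by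
          have := m.sub_mem hc₁ (m.mul_mem_left (scalar k w c) hbm)
          rwa [add_sub_cancel_right] at this
        exact (IsLocalRing.mem_maximalIdeal _).1 ham (ht w hw)
    have hfin : (⋃ w ∈ insert z S, bad w).Finite := (hS.insert z).biUnion fun w hw => (hb w hw).finite
    obtain ⟨c, hc⟩ := hfin.exists_notMem
    refine ⟨t + u ≫ Formal.smulMod k R c, fun w hw => ?_⟩
    rw [val_add, val_smul, map_add, map_smul, smul_eq_mul]
    exact not_not.1 fun h => hc (Set.mem_biUnion hw h)

end Groth.Agent.KCurve7
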