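import Groth.Agent.KCurve7.Avoid
import Groth.Agent.ExtPow7.DetHom
import Groth.Agent.KPE7.Flf
import Groth.Agent.KPE7.Special
import Groth.Agent.HomShX.Basic
import Groth.Agent.CurveExt.HomDeg
import Groth.Agent.DimOne.Ample
import Groth.Agent.AmpleX.Generated
import Groth.Agent.H23.PicInv
import Groth.Agent.KFlatLib.Scheme.TensorStalk
import Groth.Agent.KFlatLib.Scheme.QCohTensor

/-!
# The Grothendieck group of bundles on a curve
-/

set_option autoImplicit false
set_option linter.style.haveILetI false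
set_option linter.unusedSectionVars false
set_option backward.isDefEq.respectTransparency false
set_option backward.isDefEq.respectTransparency.types false
set_option synthInstance.maxHeartbeats 100000

universe u

open CategoryTheory CategoryTheory.Limits AlgebraicGeometry TopologicalSpace Opposite MonoidalCategory

noncomputable section

namespace Groth.Agent.KCurve7

open Groth.Agent Groth.Agent.ExtPow7 Groth.Agent.ExtPow7.Lam
open scoped Groth.Agent.H23.PicMul

attribute [local instance] Groth.Agent.ExtPow7.Lam.commRing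

variable {X : Scheme.{u}}

theorem surjective_tensor_map (M : X.Modules) {A B : X.Modules} (t : A ⟶ B) (x : X)
    (h : Function.Surjective ((DerSch.stalkFunctor X x).map t)) :
    Epi ((DerSch.stalkFunctor X x).map ((DCoh.tensorBi.obj M).map t)) := by
  haveI : Epi ((DerSch.stalkFunctor X x).map t) := (ModuleCat.epi_iff_surjective _).2 h
  refine ((MorphismProperty.epimorphisms _).arrow_mk_iso_iff
    (((Functor.mapArrowFunctor _ _).mapIso (KFlatLib.stalkTensorLeftIso M x)).app (Arrow.mk t))).2 ?_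
  show Epi (_ ◁ (DerSch.stalkFunctor X x).map t)
  rw [ModuleCat.epi_iff_surjective]
  exact LinearMap.lTensor_surjective _ h

theorem eq_c_of_iso {A B : X.Modules} (hA : PicF.IsInvertible A) (e : A ≅ B) : c A = c B :=
  c_iso e (H23.PullPush.isFinLocFree_of_isInvertible hA)


theorem ne_zero_of_surjective {Q : X.Modules} (hQ : PicF.IsInvertible Q) (s : Coh.structureModule X ⟶ Q) {x : X}
    (hs : Function.Surjective ((DerSch.stalkFunctor X x).map s)) : s ≠ 0 := by
  rintro rfl
  obtain ⟨v⟩ := exists_stalk_coord hQ x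
  have h := (surjective_iff (0 : Coh.structureModule X ⟶ Q) x v).1 hs
  rw [show val (0 : Coh.structureModule X ⟶ Q) x = 0 from map_zero _, map_zero] at h
  exact not_isUnit_zero h

/-- The two maps into the product are jointly onto. -/
theorem epi_desc_of_stalk {Q R W : X.Modules} (c₁ : Q ⟶ W) (c₂ : R ⟶ W)
    (h : ∀ x, Epi ((DerSch.stalkFunctor X x).map c₁) ∨ Epi ((DerSch.stalkFunctor X x).map c₂)) :
    Epi (biprod.desc c₁ c₂) := by
  refine HomShX.epi_of_stalk _ fun x => ?_
  let F := DerSch.stalkFunctor X x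
  show Function.Surjective (F.map (biprod.desc c₁ c₂))
  rw [← ModuleCat.epi_iff_surjective]
  rcases h x with h | h
  · haveI : Epi (F.map biprod.inl ≫ F.map (biprod.desc c₁ c₂)) := by
      rw [← F.map_comp, biprod.inl_desc]; exact h
    exact epi_of_epi (F.map biprod.inl) _
  · haveI : Epi (F.map biprod.inr ≫ F.map (biprod.desc c₁ c₂)) := by
      rw [← F.map_comp, biprod.inr_desc]; exact h
    exact epi_of_epi (F.map biprod.inr) _

/-- A surjection from two line bundles onto their product gives the relation. -/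
theorem relation_of_epi [ConnectedSpace X] {Q R : X.Modules} (hQ : PicF.IsInvertible Q) (hR : PicF.IsInvertible R)
    (ψ : Q ⊞ R ⟶ (DCoh.tensorBi.obj Q).obj R) [Epi ψ] : (1 - c Q) * (1 - c R) = 0 := by
  have hQf := H23.PullPush.isFinLocFree_of_isInvertible hQ
  have hRf := H23.PullPush.isFinLocFree_of_isInvertible hR
  have hQR := InvX.isInvertible_tensorMod hQ hR
  have hQRf := H23.PullPush.isFinLocFree_of_isInvertible hQR
  have hB : FlatMod.IsFinLocFree (Q ⊞ R) := KFlatLib.isFinLocFree_biprod hQf hRf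
  have hS := KZ.kerSeq_shortExact ψ
  have hSp := (ShortComplex.Splitting.ofHasBinaryBiproduct Q R).shortExact
  have hK : FlatMod.IsFinLocFree (kernel ψ) := KPE7.flf_ker hS hB hQRf
  obtain ⟨x₀⟩ := (inferInstance : Nonempty X)
  have r1 : ∀ {L : X.Modules}, PicF.IsInvertible L → Lam.rk L x₀ = 1 := fun hL =>
    rk_of_rank (InvEnd.isFinLocFreeOfRank_one hL) x₀
  have hK1 : FlatMod.IsFinLocFreeOfRank 1 (kernel ψ) := by
    have h : Lam.rk (kernel ψ) x₀ = 1 := by
      have a : Lam.rk (Q ⊞ R) x₀ = Lam.rk (kernel ψ) x₀ + Lam.rk (CohB1.tensorMod Q R) x₀ :=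
        rk_ses hS hK hQRf x₀
      have b : Lam.rk (Q ⊞ R) x₀ = Lam.rk Q x₀ + Lam.rk R x₀ := rk_ses hSp hQf hRf x₀
      rw [r1 hQR] at a
      rw [r1 hQ, r1 hR] at b
      omega
    have := rank_of_rk hK x₀
    rwa [h] at this
  let P : ObjectProperty X.Modules := fun M => FlatMod.IsFinLocFree M
  have ca : c (Q ⊞ R) = c (kernel ψ) + c (CohB1.tensorMod Q R) := KZ.clSub_ses P hS hK hB hQRf
  have cb : c (Q ⊞ R) = c Q + c R := KZ.clSub_ses P hSp hQf hB hRf
  obtain ⟨d, hd⟩ := exists_detHom (X := X)
  have hdl : ∀ {L : X.Modules}, FlatMod.IsFinLocFreeOfRank 1 L → ((d (c L)).toMul : PicF.Cl X) = PicF.cl L :=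
    fun hL => hd 1 _ _ hL (isExtPow_one _)
  have h2 := congrArg (fun u => ((Additive.toMul u : (PicF.Cl X)ˣ) : PicF.Cl X)) (congrArg d (ca.symm.trans cb))
  simp only [map_add, toMul_add, Units.val_mul, hdl hK1, hdl (InvEnd.isFinLocFreeOfRank_one hQR),
    hdl (InvEnd.isFinLocFreeOfRank_one hQ), hdl (InvEnd.isFinLocFreeOfRank_one hR)] at h2
  rw [← H23.PicMul.cl_tensor Q R] at h2
  have h3 : PicF.cl (kernel ψ) = 1 := (H23.PicMul.isUnit_cl hQR).mul_right_cancel (h2.trans (one_mul _).symm)
  obtain ⟨e⟩ := H23.PicMul.cl_eq_iff.1 (h3.trans H23.PicMul.one_def)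
  have hcK : c (kernel ψ) = 1 := (c_iso e hK).trans one_eq.symm
  have hm : c Q * c R = c (CohB1.tensorMod Q R) := mul_eq hQf hRf
  rw [sub_mul, mul_sub, mul_sub, one_mul, one_mul, mul_one, hm]
  linear_combination (ca.symm.trans cb) - hcK

variable (k : Type u) [Field k] [IsAlgClosed k] [X.Over (Spec (CommRingCat.of k))] [IsIntegral X]
  [IsProper (X ↘ Spec (CommRingCat.of k))] [Smooth (X ↘ Spec (CommRingCat.of k))]

include k in
/-- Two generated line bundles. -/
theorem cl_add_of_generated [ConnectedSpace X] (hdim : topologicalKrullDim X = 1) {Q R : X.Modules}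
    (hQ : PicF.IsInvertible Q) (hR : PicF.IsInvertible R) (hQg : Curv2.IsGloballyGenerated Q)
    (hRg : Curv2.IsGloballyGenerated R) : (1 - c Q) * (1 - c R) = 0 := by
  obtain ⟨s, hs⟩ := exists_avoid k hQ hQg (Set.finite_singleton (genericPoint X))
  have hs0 : s ≠ 0 := ne_zero_of_surjective hQ s (hs _ (Set.mem_singleton _))
  obtain ⟨Z, hZ, hZs⟩ := CurveTwist.exists_finite_surjective k hdim (InvEnd.isFinLocFreeOfRank_one hQ) s hs0
  obtain ⟨t, ht⟩ := exists_avoid k hR hRg hZ
  let c₁ : Q ⟶ (DCoh.tensorBi.obj Q).obj R := (KFlatLib.tensorUnitIso Q).inv ≫ (DCoh.tensorBi.obj Q).map t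
  let c₂ : R ⟶ (DCoh.tensorBi.obj Q).obj R :=
    (KFlatLib.tensorUnitIso R).inv ≫ (DCoh.tensorBi.obj R).map s ≫ (CurveTensor.commIso R Q).hom
  let ψ : Q ⊞ R ⟶ (DCoh.tensorBi.obj Q).obj R := biprod.desc c₁ c₂
  haveI : Epi ψ := epi_desc_of_stalk c₁ c₂ fun x => by
    by_cases hx : x ∈ Z
    · refine Or.inl ?_
      haveI := surjective_tensor_map Q t x (ht x hx)
      rw [Functor.map_comp]
      exact epi_comp _ _
    · refine Or.inr ?_
      haveI := surjective_tensor_map R s x (hZs x hx)
      rw [Functor.map_comp, Functor.map_comp]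
      haveI : Epi ((DerSch.stalkFunctor X x).map ((DCoh.tensorBi.obj R).map s) ≫
          (DerSch.stalkFunctor X x).map (CurveTensor.commIso R Q).hom) := epi_comp _ _
      exact epi_comp _ _
  exact relation_of_epi hQ hR ψ

include k in
/-- The products of two line bundle differences vanish. -/
theorem one_sub_mul_one_sub [ConnectedSpace X] (hdim : topologicalKrullDim X = 1) {L L' : X.Modules}
    (hL : PicF.IsInvertible L) (hL' : PicF.IsInvertible L') : (1 - c L) * (1 - c L') = 0 := by
  haveI := CurveCohLib.isNoetherian_of_proper (k := k) (X := X)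
  haveI : X.IsSeparated := ⟨by rw [← terminal.comp_from (X ↘ Spec (CommRingCat.of k))]; infer_instance⟩
  obtain ⟨A, hA⟩ := DimOne.exists_isAmple (X := X) hdim.le
  have hgen : ∀ {F : X.Modules}, PicF.IsInvertible F → ∃ N : ℕ, ∀ n, N ≤ n →
      Curv2.IsGloballyGenerated (CohB1.tensorMod F (CohB1.tensorPow A n)) := by
    intro F hF
    have hFf := H23.PullPush.isFinLocFree_of_isInvertible hF
    obtain ⟨N, hN⟩ := AmpleX.eventually_generated hA (QCoh.isQCoh_of_isFinLocFree hFf)
      (CurveStable.coh_of_free k hFf).2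
    refine ⟨N, fun n hn => ?_⟩
    obtain ⟨G, e, ι, s, hs⟩ := hN n hn
    obtain ⟨ι', p, hp⟩ := InvX.isGloballyGenerated_of_generated hs
    exact ⟨ι', p ≫ e.hom, inferInstance⟩
  obtain ⟨N₀, hN₀⟩ := hgen (InvX.isInvertible_structureModule (X := X))
  obtain ⟨N₁, hN₁⟩ := hgen hL
  obtain ⟨N₂, hN₂⟩ := hgen hL'
  let n := max N₀ (max N₁ N₂)
  have hP := InvX.isInvertible_tensorPow hA.1 n
  let R := CohB1.tensorMod (Coh.structureModule X) (CohB1.tensorPow A n)
  have hR : PicF.IsInvertible R := InvX.isInvertible_tensorMod InvX.isInvertible_structureModule hP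
  have hRg := hN₀ n (le_max_left _ _)
  have hcR : c R = c (CohB1.tensorPow A n) :=
    ((mul_eq flf_O (H23.PullPush.isFinLocFree_of_isInvertible hP)).symm.trans (by rw [← one_eq, one_mul]))
  obtain ⟨D, hD, ⟨e⟩⟩ := H23.PicInv.exists_inverse hR
  have hu : IsUnit (c R) := IsUnit.of_mul_eq_one (c D)
    ((mul_eq (H23.PullPush.isFinLocFree_of_isInvertible hR) (H23.PullPush.isFinLocFree_of_isInvertible hD)).trans
      ((eq_c_of_iso (InvX.isInvertible_tensorMod hR hD) e).trans one_eq.symm))
  have hQ : ∀ {F : X.Modules}, PicF.IsInvertible F → c (CohB1.tensorMod F (CohB1.tensorPow A n)) = c F * c R :=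
    fun hF => by
      rw [hcR]
      exact (mul_eq (H23.PullPush.isFinLocFree_of_isInvertible hF) (H23.PullPush.isFinLocFree_of_isInvertible hP)).symm
  have g1 := cl_add_of_generated k hdim (InvX.isInvertible_tensorMod hL hP) (InvX.isInvertible_tensorMod hL' hP)
    (hN₁ n ((le_max_left _ _).trans (le_max_right _ _))) (hN₂ n ((le_max_right _ _).trans (le_max_right _ _)))
  have g2 := cl_add_of_generated k hdim hR (InvX.isInvertible_tensorMod hL' hP) hRg
    (hN₂ n ((le_max_right _ _).trans (le_max_right _ _)))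
  have g3 := cl_add_of_generated k hdim (InvX.isInvertible_tensorMod hL hP) hR
    (hN₁ n ((le_max_left _ _).trans (le_max_right _ _))) hRg
  have g4 := cl_add_of_generated k hdim hR hR hRg hRg
  rw [hQ hL, hQ hL'] at g1
  rw [hQ hL'] at g2
  rw [hQ hL] at g3
  refine (hu.mul hu).mul_left_cancel ?_
  rw [mul_zero]
  linear_combination g1 - g2 - g3 + g4

include k in
/-- Every class is the sum of a multiple of one and a line bundle. -/
theorem exists_decomp [ConnectedSpace X] (hdim : topologicalKrullDim X = 1) (a : SGA6.Kvb X) :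
    ∃ (n : ℤ) (L : X.Modules), PicF.IsInvertible L ∧ a = (n - 1) • c (Coh.structureModule X) + c L := by
  have hO := InvX.isInvertible_structureModule (X := X)
  have hadd : ∀ {L L' : X.Modules}, PicF.IsInvertible L → PicF.IsInvertible L' →
      c L + c L' = 1 + c (CohB1.tensorMod L L') := fun {L L'} hL hL' => by
    have hm : c L * c L' = c (CohB1.tensorMod L L') :=
      mul_eq (H23.PullPush.isFinLocFree_of_isInvertible hL) (H23.PullPush.isFinLocFree_of_isInvertible hL')
    linear_combination hm - one_sub_mul_one_sub k hdim hL hL'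
  let T : AddSubgroup (SGA6.Kvb X) :=
    { carrier := {a | ∃ (n : ℤ) (L : X.Modules), PicF.IsInvertible L ∧ a = (n - 1) • c (Coh.structureModule X) + c L}
      zero_mem' := ⟨0, _, hO, by simp⟩
      add_mem' := by
        rintro _ _ ⟨n, L, hL, rfl⟩ ⟨m, L', hL', rfl⟩
        refine ⟨n + m, _, InvX.isInvertible_tensorMod hL hL', ?_⟩
        have h := hadd hL hL'
        rw [← one_eq, zsmul_eq_mul, zsmul_eq_mul, zsmul_eq_mul]
        push_cast
        linear_combination h
      neg_mem' := by
        rintro _ ⟨n, L, hL, rfl⟩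
        obtain ⟨D, hD, ⟨e⟩⟩ := H23.PicInv.exists_inverse hL
        refine ⟨-n, D, hD, ?_⟩
        have h := hadd hL hD
        have h1 : c (CohB1.tensorMod L D) = 1 := (eq_c_of_iso (InvX.isInvertible_tensorMod hL hD) e).trans one_eq.symm
        rw [← one_eq, zsmul_eq_mul, zsmul_eq_mul]
        push_cast
        linear_combination -h - h1 }
  suffices hb : ∀ (r : ℕ) (M : X.Modules), FlatMod.IsFinLocFree M → CurveBundle.rk M = r → c M ∈ T by
    obtain ⟨M, N, hM, hN, rfl⟩ := KPE7.exists_eq_sub a
    exact T.sub_mem (hb _ M hM rfl) (hb _ N hN rfl)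
  haveI := CurveCohLib.isNoetherian_of_proper (k := k) (X := X)
  intro r
  induction r with
  | zero =>
    intro M hM h0
    rw [show c M = 0 from KZ.clSub_isZero _ (CurveBundle.isZero_of_rk_zero hM h0)]
    exact T.zero_mem
  | succ r ih =>
    intro M hM hr
    obtain ⟨L, i, hi, hL, hC⟩ := CurveExt.exists_line_quot k hdim hM (hr ▸ r.succ_pos)
    haveI := hi
    have hS : (ShortComplex.mk i (cokernel.π i) (cokernel.condition i)).ShortExact :=
      CurveSlope.shortExact_cokernel_of_mono i
    have hcM : c M = c L + c (cokernel i) :=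
      KZ.clSub_ses _ hS (H23.PullPush.isFinLocFree_of_isInvertible hL) hM hC
    have hrk := CurveBundle.rk_add hS
      (CurveBundle.finite_stalk_of_coh (CurveStable.coh_of_free k hM) (genericPoint X))
    rw [CurveBundle.rk_eq (InvEnd.isFinLocFreeOfRank_one hL)] at hrk
    rw [hcM]
    exact T.add_mem ⟨1, L, hL, by simp⟩ (ih _ hC (by change CurveBundle.rk M = _ at hrk; simp only at hrk ⊢; omega))

include k in
/-- Such a decomposition is unique. -/
theorem decomp_unique [ConnectedSpace X] {n m : ℤ} {L L' : X.Modules} (hL : PicF.IsInvertible L)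
    (hL' : PicF.IsInvertible L')
    (h : (n - 1) • c (Coh.structureModule X) + c L = (m - 1) • c (Coh.structureModule X) + c L') :
    n = m ∧ Nonempty (L ≅ L') := by
  have h1 : ∀ {M : X.Modules}, PicF.IsInvertible M → FlatMod.IsFinLocFreeOfRank 1 M :=
    fun hM => InvEnd.isFinLocFreeOfRank_one hM
  have hO := h1 (InvX.isInvertible_structureModule (X := X))
  obtain ⟨ε, hε⟩ := exists_augHom (X := X)
  have he := congrArg ε h
  rw [map_add, map_add, map_zsmul, map_zsmul, hε 1 _ hO, hε 1 _ (h1 hL), hε 1 _ (h1 hL')] at he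
  simp only [Nat.cast_one, smul_eq_mul, mul_one] at he
  obtain ⟨d, hd⟩ := exists_detHom (X := X)
  have hd0 : d (c (Coh.structureModule X)) = 0 := by
    refine Additive.toMul.injective (Units.ext ?_)
    rw [hd 1 _ _ hO (isExtPow_one _), toMul_zero, Units.val_one]
    exact H23.PicMul.one_def.symm
  have hdd := congrArg (fun u => ((Additive.toMul (d u) : (PicF.Cl X)ˣ) : PicF.Cl X)) h
  simp only [map_add, map_zsmul, hd0, smul_zero, zero_add, hd 1 _ _ (h1 hL) (isExtPow_one _),
    hd 1 _ _ (h1 hL') (isExtPow_one _)] at hdd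
  exact ⟨by linarith, H23.PicMul.cl_eq_iff.1 hdd⟩

end Groth.Agent.KCurve7
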